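import Cfsg.Agent.H419.EP.Iface
import Cfsg.Agent.H925.OrthBasic

/-!
# S3499, task S3499-III-Om-POINT

The stabiliser in `Ω(Qf)` of a nonsingular point `⟨v⟩` is not a point stabiliser of an extremely primitive group.
-/

set_option autoImplicit false
set_option linter.unusedSectionVars false

namespace Cfsg.Agent.H371.EP

open QuadraticMap Matrix
open Cfsg.Agent.LieClassical.OrthCore Cfsg.Agent.LieClassical.OrthTrans Cfsg.Agent.LieClassical.OrthFinite
open Cfsg.Agent.H284 Cfsg.Agent.H419.EP Cfsg.Agent.H925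

section Kill

variable {Q : Type*} [Group Q] [Finite Q] {A : Subgroup Q} {Γ : Subgroup (MulAut Q)} (h : EPT A Γ)
variable {ι : Type} [Fintype ι] [DecidableEq ι] {F : Type*} [Field F] {S : Subgroup (GL ι F)} (m : Model Q S)

include h

/-- **Kill criterion for `M̂0` itself** -/
theorem kill_M0 {x : GL ι F} (hxS : x ∈ S) (hx : x ∉ m.hat A) {g : GL ι F} (hg : g ∈ m.hat A)
    (hgK : ∀ k ∈ m.hat A ⊓ cj x (m.hat A), g * k * g⁻¹ ∈ m.hat A ⊓ cj x (m.hat A)) : g ∈ cj x (m.hat A) := by
  refine kill_char h m hxS hx _ le_rfl ?_ ?_ hg hgK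
  · intro hle
    obtain ⟨s, hs, hs'⟩ := exists_nonscalar h m hxS hx
    exact hs' (hle hs)
  · rw [← M0_eq_map m hxS, Subgroup.subgroupOf_self]
    infer_instance

end Kill

section Free

variable {F V : Type*} [Field F] [AddCommGroup V] [Module F V] {Q : QuadraticForm F V}

/-- `q` odd: an element of `E` fixing `v` and inverting a singular vector in `v^⊥` -/
theorem odd_elts [Finite F] (hQ : Nondeg Q) (hd : 7 ≤ Module.finrank F V) (h2 : (2 : F) ≠ 0)
    {v : V} (hv : Q v ≠ 0) :
    ∃ w : V, ∃ h ∈ E Q, w ≠ 0 ∧ Q w = 0 ∧ polar Q v w = 0 ∧ h v = v ∧ h w = -w := by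
  have hG : Good Q := good_of_finite hQ (by omega)
  have hvv : polar Q v v ≠ 0 := by
    rw [polar_self']
    exact mul_ne_zero h2 hv
  -- adjust partners to be orthogonal to `v`
  have adj : ∀ a b : V, Hyp Q a b → polar Q v a = 0 → ∃ b', Hyp Q a b' ∧ polar Q v b' = 0 ∧
      ∀ c, polar Q c a = 0 → polar Q c b = 0 → polar Q c v = 0 → polar Q c b' = 0 := by
    intro a b hab hva
    have hav : polar Q a v = 0 := polar_zero_of_comm hva
    have haa : polar Q a a = 0 := hab.polar_left
    set y := b - (polar Q v b / polar Q v v) • v with hy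
    have h1 : polar Q a y = 1 := by
      rw [hy, polar_sub_right, polar_smul_right, hav, hab.pair]
      simp
    have h3 : polar Q v y = 0 := by
      rw [hy, polar_sub_right, polar_smul_right, smul_eq_mul, div_mul_cancel₀ _ hvv, sub_self]
    refine ⟨y + (-Q y) • a, ⟨hab.left, ?_, ?_⟩, ?_, ?_⟩
    · rw [Q_add, QuadraticMap.map_smul, hab.left, polar_smul_right, polar_comm Q y a, h1]
      simp
    · rw [polar_add_right, polar_smul_right, haa, h1]
      simp
    · rw [polar_add_right, polar_smul_right, h3, hva]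
      simp
    · intro c hc1 hc2 hc3
      rw [polar_add_right, polar_smul_right, hy, polar_sub_right, polar_smul_right, hc1, hc2, hc3]
      simp
  obtain ⟨w, hw0, hw, hvw'⟩ := exists_sing_perp (Q := Q) ![v] (by omega)
  have hvw : polar Q v w = 0 := hvw' 0
  obtain ⟨w1, hw1⟩ := Cfsg.Agent.LieClassical.OrthTrans.exists_hyp hQ hw hw0
  obtain ⟨w', hww', hvw2, -⟩ := adj w w1 hw1 hvw
  obtain ⟨a, ha0, ha, hperp⟩ := exists_sing_perp (Q := Q) ![v, w, w'] (by omega)
  have hva : polar Q v a = 0 := hperp 0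
  have hwa : polar Q w a = 0 := hperp 1
  have hwa' : polar Q w' a = 0 := hperp 2
  obtain ⟨b1, hab1, hwb1, hwb1'⟩ := exists_hyp_perp hQ hww' ha ha0 hwa hwa'
  obtain ⟨b, hab, hvb, hb⟩ := adj a b1 hab1 hva
  have hwb : polar Q w b = 0 := hb w hwa hwb1 (polar_zero_of_comm hvw)
  have hwb' : polar Q w' b = 0 := hb w' hwa' hwb1' (polar_zero_of_comm hvw2)
  have n1 : Q (w - w') = -1 := by
    rw [sub_eq_add_neg, Q_add, QuadraticMap.map_neg, polar_neg_right, hw, hww'.right, hww'.pair]
    simp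
  have n2 : Q (w + w') = 1 := by
    rw [Q_add, hw, hww'.right, hww'.pair]
    simp
  have n3 : Q (a - b) = -1 := by
    rw [sub_eq_add_neg, Q_add, QuadraticMap.map_neg, polar_neg_right, ha, hab.right, hab.pair]
    simp
  have n4 : Q (a + b) = 1 := by
    rw [Q_add, ha, hab.right, hab.pair]
    simp
  have hm1 : (-1 : F) ≠ 0 := neg_ne_zero.2 one_ne_zero
  have e1 : Q (w - w') ≠ 0 := by rw [n1]; exact hm1
  have e2 : Q (w + w') ≠ 0 := by rw [n2]; exact one_ne_zero
  have e3 : Q (a - b) ≠ 0 := by rw [n3]; exact hm1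
  have e4 : Q (a + b) ≠ 0 := by rw [n4]; exact one_ne_zero
  refine ⟨w, (refl Q (w - w') e1 * refl Q (a - b) e3) * (refl Q (w + w') e2 * refl Q (a + b) e4), ?_, hw0, hw, hvw,
    ?_, ?_⟩
  · exact E_mul (hG.refl_mul_refl_mem e3 e1 (by rw [n1, n3])) (hG.refl_mul_refl_mem e4 e2 (by rw [n2, n4]))
  · show refl Q (w - w') e1 (refl Q (a - b) e3 (refl Q (w + w') e2 (refl Q (a + b) e4 v))) = v
    have f1 : polar Q (w - w') v = 0 := by
      rw [polar_sub_left, polar_zero_of_comm hvw, polar_zero_of_comm hvw2, sub_zero]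
    have f2 : polar Q (w + w') v = 0 := by
      rw [polar_add_left, polar_zero_of_comm hvw, polar_zero_of_comm hvw2, add_zero]
    have f3 : polar Q (a - b) v = 0 := by
      rw [polar_sub_left, polar_zero_of_comm hva, polar_zero_of_comm hvb, sub_zero]
    have f4 : polar Q (a + b) v = 0 := by
      rw [polar_add_left, polar_zero_of_comm hva, polar_zero_of_comm hvb, add_zero]
    rw [refl_apply e4, f4, mul_zero, zero_smul, sub_zero, refl_apply e2, f2, mul_zero, zero_smul, sub_zero,
      refl_apply e3, f3, mul_zero, zero_smul, sub_zero, refl_apply e1, f1, mul_zero, zero_smul, sub_zero]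
  · show refl Q (w - w') e1 (refl Q (a - b) e3 (refl Q (w + w') e2 (refl Q (a + b) e4 w))) = -w
    have f4 : polar Q (a + b) w = 0 := by
      rw [polar_add_left, polar_zero_of_comm hwa, polar_zero_of_comm hwb, add_zero]
    have f2 : polar Q (w + w') w = 1 := by
      rw [polar_add_left, polar_self_of_sing hw, hww'.pair', zero_add]
    have g1 : refl Q (w + w') e2 w = -w' := by
      rw [refl_apply, f2, n2]
      module
    have f3 : polar Q (a - b) (-w') = 0 := by
      rw [polar_neg_right, polar_sub_left, polar_zero_of_comm hwa', polar_zero_of_comm hwb', sub_zero, neg_zero]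
    have f1 : polar Q (w - w') (-w') = -1 := by
      rw [polar_neg_right, polar_sub_left, hww'.pair, hww'.polar_right, sub_zero]
    rw [refl_apply e4, f4, mul_zero, zero_smul, sub_zero, g1, refl_apply e3, f3, mul_zero, zero_smul, sub_zero,
      refl_apply e1, f1, n1, inv_mul_cancel₀ hm1]
    module

/-- `q` even -/
theorem even_elts [Finite F] (hQ : Nondeg Q) (hd : 7 ≤ Module.finrank F V) (h2 : (2 : F) = 0)
    {v : V} (hv : Q v ≠ 0) :
    ∃ v' : V, ∃ g ∈ E Q, ∃ h ∈ E Q, g v = v' ∧ polar Q v v' ≠ 0 ∧ h v = v ∧ ∃ t : F, t ≠ 0 ∧ h v' = v' - t • v := by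
  have hG : Good Q := good_of_finite hQ (by omega)
  have hv0 : v ≠ 0 := by
    rintro rfl
    exact hv (QuadraticMap.map_zero Q)
  have hss : ∀ u : V, polar Q u u = 0 := fun u => by rw [polar_self', h2, zero_mul]
  obtain ⟨x, y, hxy⟩ := hG.exists_hyp
  obtain ⟨u, hu, huv⟩ := exists_sing_polar_one hQ hxy hv0
  have hu0 : u ≠ 0 := by
    rintro rfl
    rw [polar_zero_left] at huv
    exact zero_ne_one huv
  obtain ⟨u', huu'⟩ := Cfsg.Agent.LieClassical.OrthTrans.exists_hyp hQ hu hu0
  -- a nonsingular `w` orthogonal to `u`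
  obtain ⟨w, huw, hw⟩ : ∃ w, polar Q u w = 0 ∧ Q w ≠ 0 := by
    obtain ⟨a, c, h1, _, h3, _, h5⟩ := exists_perp2 hQ (by omega) huu'
    rcases exists_nonsing h5 with h6 | h6 | h6
    · exact ⟨a, h1, h6⟩
    · exact ⟨c, h3, h6⟩
    · exact ⟨a + c, by rw [polar_add_right, h1, h3, add_zero], h6⟩
  set v' := siegel Q u w hu huw v with hv'
  have hvv' : polar Q v v' ≠ 0 := by
    rw [hv', siegel_apply hu huw, huv]
    simp only [polar_add_right, polar_sub_right, polar_smul_right, hss, polar_comm Q v u, huv, polar_comm Q v w,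
      smul_eq_mul]
    have e : (0 : F) + 1 * polar Q w v - polar Q w v * 1 - Q w * 1 * 1 = - Q w := by ring
    rw [e]
    exact neg_ne_zero.2 hw
  -- a nonsingular vector orthogonal to `v`, `v'`
  obtain ⟨z, hvz, hvz', hz⟩ : ∃ z, polar Q v z = 0 ∧ polar Q v' z = 0 ∧ Q z ≠ 0 := by
    obtain ⟨a, ha0, ha⟩ := exists_perp_ne (Q := Q) ![v, v'] (by omega)
    have h1 : polar Q v a = 0 := ha 0
    have h3 : polar Q v' a = 0 := ha 1
    obtain ⟨c, hc⟩ := hQ.exists_polar_eq ha0 1
    set s := polar Q v v' with hs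
    set c' := c - (polar Q v c / s) • v' - (polar Q v' c / s) • v with hc'
    have hs' : polar Q v' v = s := by rw [polar_comm, hs]
    have h4 : polar Q v c' = 0 := by
      rw [hc', polar_sub_right, polar_sub_right, polar_smul_right, polar_smul_right, hss, ← hs, smul_eq_mul,
        smul_eq_mul, div_mul_cancel₀ _ hvv']
      ring
    have h5 : polar Q v' c' = 0 := by
      rw [hc', polar_sub_right, polar_sub_right, polar_smul_right, polar_smul_right, hss, hs', smul_eq_mul,
        smul_eq_mul, div_mul_cancel₀ _ hvv']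
      ring
    have h6 : polar Q a c' = 1 := by
      rw [hc', polar_sub_right, polar_sub_right, polar_smul_right, polar_smul_right, polar_zero_of_comm h1,
        polar_zero_of_comm h3, hc]
      simp
    rcases exists_nonsing h6 with h7 | h7 | h7
    · exact ⟨a, h1, h3, h7⟩
    · exact ⟨c', h4, h5, h7⟩
    · exact ⟨a + c', by rw [polar_add_right, h1, h4, add_zero], by rw [polar_add_right, h3, h5, add_zero], h7⟩
  -- scale
  have hchar : ringChar F = 2 := by
    have : ringChar F ∣ 2 := ringChar.dvd (by exact_mod_cast h2)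
    rcases (Nat.dvd_prime Nat.prime_two).1 this with h7 | h7
    · exact absurd h7 CharP.ringChar_ne_one
    · exact h7
  obtain ⟨r, hr⟩ : IsSquare (Q v / Q z) := FiniteField.isSquare_of_char_two hchar _
  have hr0 : r ≠ 0 := by
    rintro rfl
    rw [mul_zero, div_eq_zero_iff] at hr
    rcases hr with h7 | h7
    · exact hv h7
    · exact hz h7
  have hzr : Q (r • z) = Q v := by
    rw [QuadraticMap.map_smul, smul_eq_mul, ← hr, div_mul_cancel₀ _ hz]
  have hzr' : Q (r • z) ≠ 0 := by rw [hzr]; exact hv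
  refine ⟨v', siegel Q u w hu huw, siegel_mem_E hu huw, refl Q v hv * refl Q (r • z) hzr',
    hG.refl_mul_refl_mem hzr' hv hzr, rfl, hvv', ?_, (Q v)⁻¹ * polar Q v v', mul_ne_zero (inv_ne_zero hv) hvv', ?_⟩
  · show refl Q v hv (refl Q (r • z) hzr' v) = v
    rw [refl_apply hzr', polar_smul_left, polar_zero_of_comm hvz, smul_zero, mul_zero, zero_smul, sub_zero,
      refl_apply hv, hss, mul_zero, zero_smul, sub_zero]
  · show refl Q v hv (refl Q (r • z) hzr' v') = _
    rw [refl_apply hzr', polar_smul_left, polar_zero_of_comm hvz', smul_zero, mul_zero, zero_smul, sub_zero,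
      refl_apply hv]

end Free

section Row

variable {Q : Type*} [Group Q] [Finite Q] {A : Subgroup Q} {Γ : Subgroup (MulAut Q)}
variable {ι : Type} [Fintype ι] [DecidableEq ι] {F : Type*} [Field F] [Fintype F] {Qf : (ι → F) → F}

/-- **S3499-III-Om-POINT**: `A` does not stabilise a nonsingular point. -/
theorem row_point (h : EPT A Γ) (m : Model Q (Cfsg.Geo.omegaGL Qf)) (hn : 7 ≤ Fintype.card ι)
    (hQ : Cfsg.Geo.IsNondegenerateQuadraticForm Qf) {v : ι → F} (hv : Qf v ≠ 0)
    (hA : ∀ g ∈ m.hat A, ∃ c : F, (g : Matrix ι ι F) *ᵥ v = c • v) : False := by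
  have hn5 : 5 ≤ Fintype.card ι := by omega
  have hd : 7 ≤ Module.finrank F (ι → F) := by rwa [Module.finrank_fintype_fun_eq_card]
  have hND := nondeg_qf hQ
  have hv' : (qf hQ) v ≠ 0 := hv
  have hv0 : v ≠ 0 := by
    rintro rfl
    exact hv' (QuadraticMap.map_zero _)
  have hinv : ∀ {g : GL ι F} {u w : ι → F} , (g : Matrix ι ι F) *ᵥ u = w →
      ((g⁻¹ : GL ι F) : Matrix ι ι F) *ᵥ w = u := by
    intro g u w e
    rw [← e, Matrix.mulVec_mulVec, ← Units.val_mul, inv_mul_cancel, Units.val_one, Matrix.one_mulVec]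
  have hmul : ∀ (g k : GL ι F) (u : ι → F), ((g * k : GL ι F) : Matrix ι ι F) *ᵥ u =
      (g : Matrix ι ι F) *ᵥ ((k : Matrix ι ι F) *ᵥ u) := by
    intro g k u
    rw [Units.val_mul, Matrix.mulVec_mulVec]
  have hiso : ∀ g ∈ Cfsg.Geo.omegaGL Qf, ∀ u, Qf ((g : Matrix ι ι F) *ᵥ u) = Qf u := fun g hg =>
    mem_iso_iff.1 (omegaGL_le_iso Qf hg)
  have hpol : ∀ g ∈ Cfsg.Geo.omegaGL Qf, ∀ u w, polar (qf hQ) ((g : Matrix ι ι F) *ᵥ u) ((g : Matrix ι ι F) *ᵥ w) =
      polar (qf hQ) u w := by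
    intro g hg u w
    show Qf (_ + _) - Qf _ - Qf _ = Qf (_ + _) - Qf _ - Qf _
    rw [← Matrix.mulVec_add, hiso g hg, hiso g hg, hiso g hg]
  -- the hat of `A` is the full stabiliser
  have hmem : ∀ g : GL ι F, g ∈ m.hat A ↔ g ∈ Cfsg.Geo.omegaGL Qf ∧ ∃ c : F, (g : Matrix ι ι F) *ᵥ v = c • v := by
    let P : Subgroup (GL ι F) :=
      { carrier := {g | g ∈ Cfsg.Geo.omegaGL Qf ∧ ∃ c : F, (g : Matrix ι ι F) *ᵥ v = c • v}
        one_mem' := ⟨one_mem _, 1, by rw [Units.val_one, Matrix.one_mulVec, one_smul]⟩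
        mul_mem' := by
          rintro a b ⟨ha, c, hc⟩ ⟨hb, d, hd⟩
          refine ⟨mul_mem ha hb, d * c, ?_⟩
          rw [hmul, hd, Matrix.mulVec_smul, hc, smul_smul]
        inv_mem' := by
          rintro a ⟨ha, c, hc⟩
          have hc0 : c ≠ 0 := by
            rintro rfl
            have h1 := hinv hc
            rw [zero_smul, Matrix.mulVec_zero] at h1
            exact hv0 h1.symm
          refine ⟨inv_mem ha, c⁻¹, ?_⟩
          have h1 := hinv hc
          rw [Matrix.mulVec_smul] at h1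
          rw [← h1, smul_smul, inv_mul_cancel₀ hc0, one_smul]
          exact congrArg _ h1 }
    have hle : m.hat A ≤ P := fun g hg => ⟨m.hat_le A hg, hA g hg⟩
    have hne : P ≠ Cfsg.Geo.omegaGL Qf := by
      intro e
      rcases omegaGL_irreducible hQ hn5 (F ∙ v) (by
        intro g hg w hw
        rw [← e] at hg
        obtain ⟨_, c, hc⟩ := hg
        obtain ⟨d, rfl⟩ := Submodule.mem_span_singleton.1 hw
        rw [Matrix.mulVec_smul, hc, smul_smul]
        exact Submodule.smul_mem _ _ (Submodule.mem_span_singleton_self v)) with h1 | h1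
      · rw [Submodule.span_singleton_eq_bot] at h1
        exact hv0 h1
      · have h2 : Module.finrank F (F ∙ v) = Module.finrank F (ι → F) := by rw [h1, finrank_top]
        rw [finrank_span_singleton hv0] at h2
        omega
    have hP : P = m.hat A := by
      rcases (m.isMaximalIn h.max).2 P hle (fun g hg => hg.1) with h1 | h1
      · exact h1
      · exact absurd h1 hne
    intro g
    rw [← hP]
    rfl
  -- scalars
  have hsq : ∀ g ∈ Cfsg.Geo.omegaGL Qf, ∀ u, Qf u ≠ 0 → ∀ c : F, (g : Matrix ι ι F) *ᵥ u = c • u → c ^ 2 = 1 := by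
    intro g hg u hu c hc
    have h1 := hiso g hg u
    rw [hc, hQ.smul] at h1
    exact mul_right_cancel₀ hu (by rw [h1, one_mul])
  by_cases h2 : (2 : F) = 0
  · -- `q` even
    obtain ⟨v', g, hg, k, hk, e1, e2, e3, t, ht, e4⟩ := even_elts hND hd h2 hv'
    obtain ⟨x, hx, hxv⟩ := exists_omegaGL hQ hn5 hg
    obtain ⟨y, hy, hyv⟩ := exists_omegaGL hQ hn5 hk
    have hss : ∀ u : ι → F, polar (qf hQ) u u = 0 := fun u => by rw [polar_self', h2, zero_mul]
    have hxv' : (x : Matrix ι ι F) *ᵥ v = v' := by rw [hxv, e1]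
    have hone : ∀ c : F, c ^ 2 = 1 → c = 1 := by
      intro c hc
      have h3 : (c - 1) ^ 2 = 0 := by
        have : (c - 1) ^ 2 = c ^ 2 - 1 + 2 * (1 - c) := by ring
        rw [this, hc, h2]
        ring
      exact sub_eq_zero.1 (pow_eq_zero_iff (by norm_num) |>.1 h3)
    have hxA : x ∉ m.hat A := by
      intro hx'
      obtain ⟨c, hc⟩ := ((hmem x).1 hx').2
      apply e2
      rw [← hxv', hc, polar_smul_right, hss, smul_zero]
    have hv'n : Qf v' ≠ 0 := by
      rw [← hxv', hiso x hx]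
      exact hv
    -- the elements of `M0`
    have hM : ∀ k : GL ι F, k ∈ m.hat A ⊓ cj x (m.hat A) ↔ k ∈ Cfsg.Geo.omegaGL Qf ∧ (k : Matrix ι ι F) *ᵥ v = v ∧
        (k : Matrix ι ι F) *ᵥ v' = v' := by
      intro k
      rw [Subgroup.mem_inf, mem_cj, hmem, hmem]
      constructor
      · rintro ⟨⟨h3, c, hc⟩, h4, d, hd⟩
        rw [hone c (hsq k h3 v hv c hc), one_smul] at hc
        rw [hone d (hsq _ h4 v hv d hd), one_smul, hmul, hmul, hxv'] at hd
        refine ⟨h3, hc, ?_⟩
        have h5 := congrArg (fun u => (x : Matrix ι ι F) *ᵥ u) hd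
        beta_reduce at h5
        rw [hxv', ← hmul, mul_inv_cancel, Units.val_one, Matrix.one_mulVec] at h5
        exact h5
      · rintro ⟨h3, h4, h5⟩
        refine ⟨⟨h3, 1, by rw [h4, one_smul]⟩, mul_mem (mul_mem (inv_mem hx) h3) hx, 1, ?_⟩
        rw [hmul, hmul, hxv', h5, one_smul]
        exact hinv hxv'
    have hyv1 : (y : Matrix ι ι F) *ᵥ v = v := by rw [hyv, e3]
    have hyv2 : (y : Matrix ι ι F) *ᵥ v' = v' - t • v := by rw [hyv, e4]
    have hyA : y ∈ m.hat A := (hmem y).2 ⟨hy, 1, by rw [hyv1, one_smul]⟩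
    have hyi : ((y⁻¹ : GL ι F) : Matrix ι ι F) *ᵥ v' = v' + t • v := by
      apply hinv
      rw [Matrix.mulVec_add, Matrix.mulVec_smul, hyv1, hyv2, sub_add_cancel]
    have key := kill_M0 h m hx hxA hyA (by
      intro k hk
      rw [hM] at hk ⊢
      obtain ⟨h3, h4, h5⟩ := hk
      refine ⟨mul_mem (mul_mem hy h3) (inv_mem hy), ?_, ?_⟩
      · rw [hmul, hmul, hinv hyv1, h4, hyv1]
      · rw [hmul, hmul, hyi, Matrix.mulVec_add, Matrix.mulVec_smul, h4, h5, Matrix.mulVec_add, Matrix.mulVec_smul,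
          hyv1, hyv2, sub_add_cancel])
    have h6 := ((hM y).1 ⟨hyA, key⟩).2.2
    rw [hyv2] at h6
    have h7 : t • v = 0 := by
      have : t • v = v' - (v' - t • v) := by module
      rw [this, h6, sub_self]
    rcases smul_eq_zero.1 h7 with h8 | h8
    · exact ht h8
    · exact hv0 h8
  · -- `q` odd
    obtain ⟨w, k, hk, hw0, hw, hvw, e3, e4⟩ := odd_elts hND hd h2 hv'
    obtain ⟨y, hy, hyv⟩ := exists_omegaGL hQ hn5 hk
    have hQw : Qf w = 0 := hw
    have hvv : polar (qf hQ) v v ≠ 0 := by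
      rw [polar_self']
      exact mul_ne_zero h2 hv'
    have hQvw : Qf (v + w) = Qf v := by
      have h3 : (qf hQ) (v + w) = _ := Q_add (Q := qf hQ) v w
      rw [hw, hvw, add_zero, add_zero] at h3
      exact h3
    have hvw0 : v + w ≠ 0 := by
      intro e
      apply hv
      rw [← hQvw, e]
      exact QuadraticMap.map_zero (qf hQ)
    obtain ⟨x, hx, hxv⟩ := exists_trans hQ hn5 hv0 hvw0 hQvw.symm
    have hcw : ∀ c : F, c • v = w → False := by
      intro c hc
      have h3 := hvw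
      rw [← hc, polar_smul_right, smul_eq_mul, mul_eq_zero] at h3
      rcases h3 with h3 | h3
      · rw [h3, zero_smul] at hc
        exact hw0 hc.symm
      · exact hvv h3
    have hxA : x ∉ m.hat A := by
      intro hx'
      obtain ⟨c, hc⟩ := ((hmem x).1 hx').2
      rw [hxv] at hc
      apply hcw (c - 1)
      rw [sub_smul, one_smul, ← hc, add_sub_cancel_left]
    have hM : ∀ k : GL ι F, k ∈ m.hat A ⊓ cj x (m.hat A) ↔ k ∈ Cfsg.Geo.omegaGL Qf ∧
        ∃ c : F, (k : Matrix ι ι F) *ᵥ v = c • v ∧ (k : Matrix ι ι F) *ᵥ w = c • w := by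
      intro k
      rw [Subgroup.mem_inf, mem_cj, hmem, hmem]
      constructor
      · rintro ⟨⟨h3, c, hc⟩, h4, d, hd⟩
        have hc2 := hsq k h3 v hv c hc
        have hc0 : c ≠ 0 := by
          rintro rfl
          norm_num at hc2
        have hd' : (k : Matrix ι ι F) *ᵥ (v + w) = d • (v + w) := by
          have h5 := congrArg (fun u => (x : Matrix ι ι F) *ᵥ u) hd
          beta_reduce at h5
          rw [Matrix.mulVec_smul, hmul, hmul, hxv, ← hmul, mul_inv_cancel, Units.val_one, Matrix.one_mulVec] at h5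
          exact h5
        have hkw : (k : Matrix ι ι F) *ᵥ w = (d - c) • v + d • w := by
          have h5 : (k : Matrix ι ι F) *ᵥ w = (k : Matrix ι ι F) *ᵥ (v + w) - (k : Matrix ι ι F) *ᵥ v := by
            rw [Matrix.mulVec_add, add_sub_cancel_left]
          rw [h5, hd', hc]
          module
        have h6 := hpol k h3 v w
        rw [hc, hkw, hvw, polar_smul_left, polar_add_right, polar_smul_right, polar_smul_right, hvw, smul_zero,
          add_zero, smul_eq_mul, smul_eq_mul, mul_eq_zero, mul_eq_zero] at h6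
        have hdc : d = c := by
          rcases h6 with h6 | h6 | h6
          · exact absurd h6 hc0
          · exact sub_eq_zero.1 h6
          · exact absurd h6 hvv
        refine ⟨h3, c, hc, ?_⟩
        rw [hkw, hdc, sub_self, zero_smul, zero_add]
      · rintro ⟨h3, c, h4, h5⟩
        refine ⟨⟨h3, c, h4⟩, mul_mem (mul_mem (inv_mem hx) h3) hx, c, ?_⟩
        rw [hmul, hmul, hxv, Matrix.mulVec_add, h4, h5, ← smul_add, Matrix.mulVec_smul, hinv hxv]
    have hyv1 : (y : Matrix ι ι F) *ᵥ v = v := by rw [hyv, e3]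
    have hyv2 : (y : Matrix ι ι F) *ᵥ w = -w := by rw [hyv, e4]
    have hyA : y ∈ m.hat A := (hmem y).2 ⟨hy, 1, by rw [hyv1, one_smul]⟩
    have hyi : ((y⁻¹ : GL ι F) : Matrix ι ι F) *ᵥ w = -w := by
      apply hinv
      rw [Matrix.mulVec_neg, hyv2, neg_neg]
    have key := kill_M0 h m hx hxA hyA (by
      intro k hk
      rw [hM] at hk ⊢
      obtain ⟨h3, c, h4, h5⟩ := hk
      refine ⟨mul_mem (mul_mem hy h3) (inv_mem hy), c, ?_, ?_⟩
      · rw [hmul, hmul, hinv hyv1, h4, Matrix.mulVec_smul, hyv1]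
      · rw [hmul, hmul, hyi, Matrix.mulVec_neg, h5, Matrix.mulVec_neg, Matrix.mulVec_smul, hyv2]
        module)
    obtain ⟨_, c, h6, h7⟩ := (hM y).1 ⟨hyA, key⟩
    rw [hyv1] at h6
    rw [hyv2] at h7
    have hc1 : c = 1 := by
      have h8 : (c - 1) • v = 0 := by rw [sub_smul, one_smul, ← h6, sub_self]
      rcases smul_eq_zero.1 h8 with h9 | h9
      · exact sub_eq_zero.1 h9
      · exact absurd h9 hv0
    rw [hc1, one_smul] at h7
    have h8 : (2 : F) • w = 0 := by
      have : (2 : F) • w = w - (-w) := by module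
      rw [this, h7, sub_self]
    rcases smul_eq_zero.1 h8 with h9 | h9
    · exact h2 h9
    · exact hw0 h9

/-- **S3499-III-Om-POINT**, with `subspaceStabilizer` -/
theorem row_point_stab (h : EPT A Γ) (m : Model Q (Cfsg.Geo.omegaGL Qf)) (hn : 7 ≤ Fintype.card ι)
    (hQ : Cfsg.Geo.IsNondegenerateQuadraticForm Qf) {v : ι → F} (hv : Qf v ≠ 0)
    (hA : m.hat A ≤ Cfsg.Geo.subspaceStabilizer (F ∙ v)) : False := by
  refine row_point h m hn hQ hv fun g hg => ?_
  have h1 : (g : Matrix ι ι F) *ᵥ v ∈ (F ∙ v) := ((hA hg) v).1 (Submodule.mem_span_singleton_self v)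
  obtain ⟨c, hc⟩ := Submodule.mem_span_singleton.1 h1
  exact ⟨c, hc.symm⟩

end Row

end Cfsg.Agent.H371.EP
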